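import Groth.Agent.CycCovEt.Alg
import Groth.Agent.Props.GenTensor
import Groth.Agent.NormalSec.Basic
import Groth.Agent.S9791
import Groth.Prelude.Def_CycCov
import Mathlib.AlgebraicGeometry.Morphisms.Etale
import Mathlib.RingTheory.RootsOfUnity.AlgebraicallyClosed
import Mathlib.FieldTheory.IsAlgClosed.Basic

/-! # Cyclic covers are étale away from the branch divisor -/

set_option autoImplicit false
set_option linter.style.haveILetI false
set_option backward.isDefEq.respectTransparency false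

universe u

open CategoryTheory AlgebraicGeometry Opposite TopologicalSpace

noncomputable section

namespace Groth.Agent.CycCovEt

open Groth.Agent.QCoh Groth.Agent.Props.GenLocus Groth.Agent.Props.GenTensor Groth.Agent.CycPic

variable {X Y : Scheme.{u}}

lemma lpow_eq_pw (L : X.Modules) (U : X.Opens) (e : Γ(L, U)) :
    ∀ n, CycCov.lpow L U e n = pw L e n
  | 0 => rfl
  | n + 1 => by
    show SecTwist.tmul (CohB1.tensorPow L n) L U (CycCov.lpow L U e n) e = tmul (pw L e n) e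
    rw [lpow_eq_pw L U e n]
    rfl

lemma isGen_prelude {L : X.Modules} {U : X.Opens} {e : Γ(L, U)}
    (he : Props.GenLocus.IsGen L U e) : CycCov.IsGen L U e := by
  have h := he U le_rfl
  unfold sm at h
  rw [res_self] at h
  exact h

lemma ideal_eq_top_of_disjoint (I : X.IdealSheafData) (U : X.affineOpens)
    (h : Disjoint (U.1 : Set X) (I.support : Set X)) : I.ideal U = ⊤ := by
  by_contra hne
  obtain ⟨m, hm, hle⟩ := Ideal.exists_le_maximal _ hne
  let p : PrimeSpectrum Γ(X, U.1) := ⟨m, hm.isPrime⟩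
  have hxU : U.2.fromSpec p ∈ U.1 := U.2.range_fromSpec.subset ⟨p, rfl⟩
  refine Set.disjoint_left.1 h hxU ?_
  have h2 : U.2.fromSpec p ∈ X.zeroLocus (U := U.1) (I.ideal U : Set Γ(X, U.1)) ∩ (U.1 : Set X) := by
    rw [← U.2.fromSpec_image_zeroLocus]
    exact ⟨p, hle, rfl⟩
  exact ((I.coe_support_inter U).ge h2).1

lemma divIdeal_eq_top {r : ℕ} (D : Fin r → X.IdealSheafData) (α : Fin r → ℕ) (U : X.affineOpens)
    (h : ∀ j, 0 < α j → Disjoint (U.1 : Set X) ((D j).support : Set X)) :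
    (CycCov.divIdeal D α).ideal U = ⊤ := by
  refine Finset.prod_induction _ (fun J : X.IdealSheafData => J.ideal U = ⊤) ?_ ?_ ?_
  · intro I J hI hJ
    rw [Scheme.IdealSheafData.ideal_mul, Pi.mul_apply, hI, hJ, Ideal.mul_top]
  · show ((1 : X.IdealSheafData).ideal) U = ⊤
    simp
  · intro j _
    show (D j ^ α j).ideal U = ⊤
    rw [Scheme.IdealSheafData.ideal_pow, Pi.pow_apply]
    rcases Nat.eq_zero_or_pos (α j) with h0 | h0
    · rw [h0, pow_zero, Ideal.one_eq_top]
    · rw [ideal_eq_top_of_disjoint _ U (h j h0), Ideal.top_pow]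

/-- A frame in which a nowhere vanishing section has invertible coordinate. -/
lemma isUnit_coord {M : X.Modules} (s : Coh.structureModule X ⟶ M) {I : X.IdealSheafData}
    (hs : CycCov.IsZeroDiv M s I) (U : X.affineOpens) (hI : I.ideal U = ⊤) {g : Γ(M, U.1)}
    (hg : CycCov.IsGen M U.1 g) {f : Γ(X, U.1)} (hf : SecTwist.val s U.1 = f • g) : IsUnit f := by
  have h := hs U
  rw [hI, Submodule.top_smul] at h
  have hm : (g : M.val.obj (op U.1)) ∈ (⊤ : Submodule Γ(X, U.1) (M.val.obj (op U.1))) := trivial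
  rw [← h, Submodule.mem_span_singleton] at hm
  obtain ⟨c, hc⟩ := hm
  rw [hf, smul_smul] at hc
  exact IsUnit.of_mul_eq_one_right c (hg.1 (hc.trans (one_smul _ g).symm))

variable [IsIntegral X]

lemma res_injective {U V : X.Opens} (h : V ≤ U) [Nonempty V] :
    Function.Injective (X.presheaf.map (homOfLE h).op).hom :=
  map_injective_of_isIntegral X (homOfLE h)

theorem isIntegrallyClosed_of_normal (hn : Pi1.IsNormalScheme X) (U : X.Opens) [Nonempty U] :
    IsIntegrallyClosed Γ(X, U) :=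
  NormalSec.isIntegrallyClosed_sections U (fun y _ => (hn y).1) (fun y _ => (hn y).2)
    (fun _ hb y hy h => hb (germ_injective_of_isIntegral X y hy (h.trans (map_zero _).symm)))

variable {L : X.Modules} {N : ℕ} {s : Coh.structureModule X ⟶ CohB1.tensorPow L N} {π : Y ⟶ X}

/-- Restriction of chart algebras. -/
def mapK {B B' : Type u} [CommRing B] [CommRing B'] (ρ : B →+* B') (N : ℕ) (a : B) :
    Kum B N a →+* Kum B' N (ρ a) :=
  Kum.lift ((AdjoinRoot.of _).comp ρ) (AdjoinRoot.root _) (Kum.root_pow N (ρ a))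

lemma mapK_mk {B B' : Type u} [CommRing B] [CommRing B'] (ρ : B →+* B') (a : B) (c : Fin N → B) :
    mapK ρ N a (Kum.mk a c) = Kum.mk (ρ a) (fun k => ρ (c k)) := by
  rw [Kum.mk, Kum.mk, map_sum]
  refine Finset.sum_congr rfl fun k _ => ?_
  rw [map_mul, map_pow, mapK, Kum.lift_of, Kum.lift_root]
  rfl

/-- Charts restrict. -/
theorem exists_chart_res (R : CycCov.Root L N s π) {W₀ : X.Opens}
    (hW₀ : ∀ (U : X.affineOpens), U.1 ≤ W₀ →
        ∀ (e : L.val.obj (op U.1)) (he : CycCov.IsGen L U.1 e) (f : Γ(X, U.1))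
          (hf : SecTwist.val s U.1 = f • CycCov.lpow L U.1 e N), Function.Bijective (CycCov.chart R U e he f hf))
    (U : X.affineOpens) (e : Γ(L, U.1)) (he : Props.GenLocus.IsGen L U.1 e) (f : Γ(X, U.1))
    (hf : SecTwist.val s U.1 = f • CycCov.lpow L U.1 e N) (V : X.affineOpens) (h : V.1 ≤ U.1) (hV : V.1 ≤ W₀) :
    ∃ ψ' : Kum Γ(X, V.1) N ((X.presheaf.map (homOfLE h).op).hom f) →+* Γ(Y, π ⁻¹ᵁ V.1),
      Function.Bijective ψ' ∧
      (∀ r, ψ' (AdjoinRoot.of _ r) = (π.app V.1).hom r) ∧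
      ∀ p, (Y.presheaf.map (homOfLE (π.preimage_mono h)).op).hom
          (CycCov.chart R U e (isGen_prelude he) f hf p) =
        ψ' (mapK (X.presheaf.map (homOfLE h).op).hom N f p) := by
  have hf' : SecTwist.val s V.1 = (X.presheaf.map (homOfLE h).op).hom f • CycCov.lpow L V.1 (res L h e) N := by
    rw [lpow_eq_pw, ← res_pw]
    rw [lpow_eq_pw] at hf
    refine Eq.trans ?_ ((congrArg (res (CohB1.tensorPow L N) h) hf).trans (res_smul _ _ _ _))
    exact (sec_res s h).symm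
  let he' := isGen_prelude (he.restrict h)
  refine ⟨CycCov.chart R V (res L h e) he' _ hf', hW₀ V hV _ he' _ hf', fun r => AdjoinRoot.lift_of _,
    fun p => ?_⟩
  have key : (Y.presheaf.map (homOfLE (π.preimage_mono h)).op).hom.comp
      (CycCov.chart R U e (isGen_prelude he) f hf) =
      (CycCov.chart R V (res L h e) he' _ hf').comp (mapK (X.presheaf.map (homOfLE h).op).hom N f) := by
    refine AdjoinRoot.ringHom_ext (RingHom.ext fun r => ?_) ?_
    · simp only [RingHom.comp_apply, mapK, Kum.lift_of, CycCov.chart, AdjoinRoot.lift_of]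
      exact (congrArg (fun φ => φ.hom r) (π.naturality (homOfLE h).op)).symm
    · simp only [RingHom.comp_apply, mapK, Kum.lift_root, CycCov.chart, AdjoinRoot.lift_root]
      exact R.t_res U V h e _ he'
  exact DFunLike.congr_fun key p

/-- The ring map of a cyclic cover over an affine open where the radicand is invertible. -/
theorem etale_app (hN : 0 < N) {R : CycCov.Root L N s π} (hR : CycCov.IsCover R) (hnX : Pi1.IsNormalScheme X)
    (U : X.affineOpens) [Nonempty U.1] (hNu : IsUnit (N : Γ(X, U.1))) {ζ : Γ(X, U.1)} (hζ : IsPrimitiveRoot ζ N)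
    (e : Γ(L, U.1)) (he : Props.GenLocus.IsGen L U.1 e) (f : Γ(X, U.1)) (hfu : IsUnit f)
    (hf : SecTwist.val s U.1 = f • CycCov.lpow L U.1 e N) : (π.app U.1).hom.Etale := by
  obtain ⟨hfin, hnY, W₀, hdX, hdY, hW₀⟩ := hR
  haveI := hfin
  haveI : IsIntegrallyClosed Γ(X, U.1) := isIntegrallyClosed_of_normal hnX U.1
  haveI : ∀ y : Y, _root_.IsReduced (Y.presheaf.stalk y) := fun y => by
    haveI := (hnY y).1
    infer_instance
  haveI : AlgebraicGeometry.IsReduced Y := isReduced_of_isReduced_stalk Y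
  let ψ : Kum Γ(X, U.1) N f →+* Γ(Y, π ⁻¹ᵁ U.1) := CycCov.chart R U e (isGen_prelude he) f hf
  have hψof : ∀ r, ψ (AdjoinRoot.of _ r) = (π.app U.1).hom r := fun r => AdjoinRoot.lift_of _
  -- non-zero functions on `U` are non-zero-divisors upstairs
  have htf : ∀ (b : Γ(X, U.1)) (c : Γ(Y, π ⁻¹ᵁ U.1)), b ≠ 0 → ψ (AdjoinRoot.of _ b) * c = 0 → c = 0 := by
    intro b c hb hbc
    rw [hψof] at hbc
    rw [← basicOpen_eq_bot_iff]
    by_contra hne
    obtain ⟨y, hyW, hyc⟩ := hdY.exists_mem_open (Y.basicOpen c).2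
      ((Opens.coe_eq_empty.not.2 hne) |> Set.nonempty_iff_ne_empty.2)
    obtain ⟨g, hgW, hyg⟩ := U.2.exists_basicOpen_le (V := W₀) ⟨π y, hyW⟩ (Y.basicOpen_le c hyc)
    haveI : Nonempty (X.basicOpen g) := ⟨⟨π y, hyg⟩⟩
    let V : X.affineOpens := ⟨X.basicOpen g, U.2.basicOpen g⟩
    obtain ⟨ψ', hψ', hψ'of, -⟩ := exists_chart_res R hW₀ U e he f hf V (X.basicOpen_le g) hgW
    obtain ⟨p, hp⟩ := hψ'.2 ((Y.presheaf.map (homOfLE (π.preimage_mono (X.basicOpen_le g))).op).hom c)
    have h1 : ψ' (AdjoinRoot.of _ ((X.presheaf.map (homOfLE (X.basicOpen_le g)).op).hom b) * p) = ψ' 0 := by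
      rw [map_mul, map_zero, hψ'of, hp,
        show (π.app V.1).hom ((X.presheaf.map (homOfLE (X.basicOpen_le g)).op).hom b) =
          (Y.presheaf.map (homOfLE (π.preimage_mono (X.basicOpen_le g))).op).hom ((π.app U.1).hom b) from
          congrArg (fun φ => φ.hom b) (π.naturality (homOfLE (X.basicOpen_le g)).op),
        ← map_mul, hbc, map_zero]
    have h2 := hψ'.1 h1
    have h3 : p = 0 := Kum.ext hN fun k => by
      have h4 : Kum.cf hN _ k = Kum.cf hN (0 : Kum Γ(X, V.1) N ((X.presheaf.map (homOfLE (X.basicOpen_le g)).op).hom f)) k :=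
        congrArg (fun q => Kum.cf hN q k) h2
      erw [Kum.cf_of_mul] at h4
      have h5 : Kum.cf hN (0 : Kum Γ(X, V.1) N ((X.presheaf.map (homOfLE (X.basicOpen_le g)).op).hom f)) k = 0 := by
        simp [Kum.cf]
      rw [h5] at h4 ⊢
      refine (mul_eq_zero.1 h4).resolve_left fun h6 => hb (res_injective (X.basicOpen_le g) (h6.trans (map_zero _).symm))
    rw [h3, map_zero] at hp
    have h7 : y ∈ Y.basicOpen ((Y.presheaf.map (homOfLE (π.preimage_mono (X.basicOpen_le g))).op).hom c) := by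
      rw [Scheme.basicOpen_res]
      exact ⟨hyg, hyc⟩
    rw [← hp, Scheme.basicOpen_zero] at h7
    exact h7
  -- a chart of the simple cover inside `U`
  obtain ⟨x, hxW, hxU⟩ := hdX.exists_mem_open U.1.2 (Set.nonempty_coe_sort.1 ‹Nonempty U.1›)
  obtain ⟨g, hgW, hxg⟩ := U.2.exists_basicOpen_le (V := W₀) ⟨x, hxW⟩ hxU
  haveI : Nonempty (X.basicOpen g) := ⟨⟨x, hxg⟩⟩
  have hg0 : g ≠ 0 := by
    rintro rfl
    rw [Scheme.basicOpen_zero] at hxg
    exact hxg
  let V : X.affineOpens := ⟨X.basicOpen g, U.2.basicOpen g⟩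
  have hle : V.1 ≤ U.1 := X.basicOpen_le g
  obtain ⟨ψ', hψ', -, hcomm⟩ := exists_chart_res R hW₀ U e he f hf V hle hgW
  have hψinj : Function.Injective ψ := by
    refine (injective_iff_map_eq_zero _).2 fun p hp => ?_
    have h1 : mapK (X.presheaf.map (homOfLE hle).op).hom N f p = 0 := by
      refine hψ'.1 ?_
      rw [← hcomm, map_zero]
      exact (congrArg _ hp).trans (map_zero _)
    rw [← Kum.mk_cf hN p, mapK_mk] at h1
    refine Kum.ext hN fun k => ?_
    have h2 := congrArg (fun q => Kum.cf hN q k) h1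
    simp only [Kum.cf_mk] at h2
    have h5 : Kum.cf hN (0 : Kum Γ(X, U.1) N f) k = 0 := by simp [Kum.cf]
    rw [h5]
    refine res_injective hle (h2.trans ?_)
    rw [map_zero]
    simp [Kum.cf]
  have hfrac : ∀ c, ∃ (b : Γ(X, U.1)) (p : Kum Γ(X, U.1) N f),
      b ≠ 0 ∧ ψ (AdjoinRoot.of _ b) * c = ψ p := by
    intro c
    obtain ⟨p', hp'⟩ := hψ'.2 ((Y.presheaf.map (homOfLE (π.preimage_mono hle)).op).hom c)
    haveI := U.2.isLocalization_basicOpen g
    obtain ⟨⟨b, m, rfl⟩, hb⟩ := IsLocalization.exist_integer_multiples_of_finite (Submonoid.powers g)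
      (S := Γ(X, X.basicOpen g)) (fun k => Kum.cf hN p' k)
    choose a ha using hb
    have h1 : (Y.presheaf.map (homOfLE (π.preimage_mono hle)).op).hom
        ((π.app U.1).hom (g ^ m) * c - ψ (Kum.mk f a)) = 0 := by
      rw [map_sub, map_mul, ← hψof, hcomm, hcomm, ← hp', ← map_mul, ← map_sub, mapK_mk]
      refine Eq.trans (congrArg ψ' ?_) (map_zero ψ')
      rw [sub_eq_zero, mapK, Kum.lift_of, RingHom.comp_apply]
      conv_lhs => rw [← Kum.mk_cf hN p']
      rw [Kum.of_mul_mk]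
      congr 1
      funext k
      exact (Algebra.smul_def _ _).symm.trans (ha k).symm
    haveI : IsLocalization.Away ((π.app U.1).hom g) Γ(Y, Y.basicOpen ((π.app U.1).hom g)) :=
      (U.2.preimage π).isLocalization_basicOpen _
    have h2 : (algebraMap Γ(Y, π ⁻¹ᵁ U.1) Γ(Y, Y.basicOpen ((π.app U.1).hom g)))
        ((π.app U.1).hom (g ^ m) * c - ψ (Kum.mk f a)) = 0 := by
      have e1 : Y.basicOpen ((π.app U.1).hom g) ≤ π ⁻¹ᵁ X.basicOpen g := (π.preimage_basicOpen g).ge
      have h3 := congrArg (Y.presheaf.map (homOfLE e1).op).hom h1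
      rw [map_zero, ← ConcreteCategory.comp_apply, ← Functor.map_comp] at h3
      exact h3
    rw [IsLocalization.map_eq_zero_iff (Submonoid.powers ((π.app U.1).hom g))] at h2
    obtain ⟨⟨_, n, rfl⟩, hn⟩ := h2
    refine ⟨g ^ m, Kum.mk f a, pow_ne_zero _ hg0, ?_⟩
    rw [hψof, ← sub_eq_zero]
    refine htf (g ^ n) _ (pow_ne_zero _ hg0) ?_
    rw [hψof, map_pow]
    exact hn
  have hsurj : Function.Surjective ψ := by
    refine surjective_of_generic hN hNu hfu hζ ψ hψinj ?_ htf hfrac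
    intro c
    rw [show ψ.comp (AdjoinRoot.of _) = (π.app U.1).hom from RingHom.ext hψof]
    exact (π.finite_app U.1 U.2).to_isIntegral c
  letI := (π.app U.1).hom.toAlgebra
  haveI := Kum.etale hN hfu hNu
  let Φ : Kum Γ(X, U.1) N f ≃ₐ[Γ(X, U.1)] Γ(Y, π ⁻¹ᵁ U.1) :=
    AlgEquiv.ofRingEquiv (f := RingEquiv.ofBijective ψ ⟨hψinj, hsurj⟩) hψof
  exact RingHom.etale_algebraMap.2 (Algebra.Etale.of_equiv Φ)

/-- Étaleness over an open covered by affine opens with étale ring maps. -/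
theorem etale_restrict_of_app [IsAffineHom π] (W : X.Opens)
    (H : ∀ x ∈ W, ∃ U : X.affineOpens, x ∈ U.1 ∧ U.1 ≤ W ∧ (π.app U.1).hom.Etale) : Etale (π ∣_ W) := by
  choose U hxU hUW hU using H
  suffices h : Etale ((π ⁻¹ᵁ W).ι ≫ π) by
    have : Etale (π ∣_ W ≫ W.ι) := by rwa [morphismRestrict_ι]
    exact Etale.of_comp (π ∣_ W) W.ι
  let ι := {x // x ∈ W}
  refine IsZariskiLocalAtSource.of_openCover (P := @Etale)
    (Scheme.openCoverOfIsOpenCover (π ⁻¹ᵁ W : Scheme.{u})
      (fun x : ι => (π ⁻¹ᵁ W).ι ⁻¹ᵁ (π ⁻¹ᵁ (U x.1 x.2).1)) ?_) fun x => ?_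
  · refine Opens.ext (Set.eq_univ_of_forall fun y => ?_)
    have hy : π ((π ⁻¹ᵁ W).ι y) ∈ W := y.2
    exact Opens.mem_iSup.2 ⟨⟨_, hy⟩, hxU _ hy⟩
  · let V := π ⁻¹ᵁ (U x.1 x.2).1
    have hV : IsAffineOpen V := (U x.1 x.2).2.preimage π
    have h1 : Etale (hV.fromSpec ≫ π) := by
      rw [← (U x.1 x.2).2.SpecMap_appLE_fromSpec π hV le_rfl]
      haveI : Etale (Spec.map (π.appLE (U x.1 x.2).1 V le_rfl)) := by
        rw [HasRingHomProperty.Spec_iff (P := @Etale), ← π.app_eq_appLE]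
        exact hU x.1 x.2
      infer_instance
    have h2 : Etale (V.ι ≫ π) := by
      rw [← hV.isoSpec_hom_fromSpec, Category.assoc]
      infer_instance
    rw [Scheme.openCoverOfIsOpenCover_f]
    have e : ((π ⁻¹ᵁ W).ι ⁻¹ᵁ V).ι ≫ (π ⁻¹ᵁ W).ι = ((π ⁻¹ᵁ W).ι ∣_ V) ≫ V.ι := by simp
    rw [← Category.assoc, e, Category.assoc]
    infer_instance

end Groth.Agent.CycCovEt
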