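import Groth.Agent.CycPic.Kum
import Mathlib.RingTheory.Polynomial.ScaleRoots
import Mathlib.RingTheory.IntegralClosure.IntegrallyClosed
import Mathlib.RingTheory.RootsOfUnity.PrimitiveRoots
import Mathlib.Algebra.Ring.GeomSum
import Mathlib.RingTheory.Localization.FractionRing

/-! # Kummer algebras with invertible radicand are integrally closed -/

set_option autoImplicit false

universe u

open Polynomial

noncomputable section

namespace Groth.Agent.CycCovEt

open Groth.Agent.CycPic

variable {B : Type u} [CommRing B] [IsDomain B] [IsIntegrallyClosed B] {N : ℕ} {a : B}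

/-- Coordinates of integral elements of a Kummer algebra over the fraction field are integral. -/
theorem coeff_mem_range (hN : 0 < N) (hNu : IsUnit (N : B)) (hau : IsUnit a) {ζ : B} (hζ : IsPrimitiveRoot ζ N)
    (c : Fin N → FractionRing B) (hx : IsIntegral B (Kum.mk (algebraMap B (FractionRing B) a) c)) (i : Fin N) :
    c i ∈ (algebraMap B (FractionRing B)).range := by
  let K := FractionRing B
  let a' : K := algebraMap B K a
  let A := Kum K N a'
  let z : K := algebraMap B K ζ
  have hz : IsPrimitiveRoot z N := hζ.map_of_injective (IsFractionRing.injective B K)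
  have hσ : ∀ j : ℕ, (AdjoinRoot.of (X ^ N - C a') (z ^ j) * AdjoinRoot.root _) ^ N =
      (AdjoinRoot.of (X ^ N - C a')).comp (RingHom.id K) a' := fun j => by
    rw [mul_pow, Kum.root_pow, ← map_pow, ← pow_mul, mul_comm j N, pow_mul, hz.pow_eq_one, one_pow, map_one,
      one_mul]
    rfl
  let σ : ℕ → A →+* A := fun j => Kum.lift ((AdjoinRoot.of (X ^ N - C a')).comp (RingHom.id K)) _ (hσ j)
  have hσB : ∀ j (b : B), σ j (algebraMap B A b) = algebraMap B A b := fun j b => by
    show σ j (AdjoinRoot.of _ (algebraMap B K b)) = AdjoinRoot.of _ (algebraMap B K b)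
    exact Kum.lift_of _ _ _ _
  let m : ℕ := N - i.1
  have hint : IsIntegral B
      (∑ j ∈ Finset.range N, AdjoinRoot.of (X ^ N - C a') (z ^ (j * m)) * σ j (Kum.mk a' c)) := by
    refine IsIntegral.sum _ fun j _ => IsIntegral.mul ?_ ?_
    · rw [← map_pow]
      exact isIntegral_algebraMap
    · exact hx.map ({ σ j with commutes' := hσB j } : A →ₐ[B] A)
  have hsum : (∑ j ∈ Finset.range N, AdjoinRoot.of (X ^ N - C a') (z ^ (j * m)) * σ j (Kum.mk a' c)) =
      AdjoinRoot.of _ ((N : K) * c i) * AdjoinRoot.root _ ^ (i : ℕ) := by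
    have e1 : ∀ j, σ j (Kum.mk a' c) = Kum.mk a' (fun k => c k * (z ^ j) ^ (k : ℕ)) := fun j =>
      (Kum.lift_mk (RingHom.id K) (z ^ j) (hσ j) c).trans (by rfl)
    simp only [e1, Kum.of_mul_mk]
    simp only [Kum.mk, Finset.mul_sum, ← mul_assoc, ← map_mul]
    rw [Finset.sum_comm, Finset.sum_eq_single i]
    · rw [← Finset.sum_mul, ← map_sum]
      congr 2
      rw [show (N : K) * c i = ∑ j ∈ Finset.range N, c i by rw [Finset.sum_const, Finset.card_range, nsmul_eq_mul]]
      refine Finset.sum_congr rfl fun j _ => ?_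
      have h1 : z ^ (j * m) * (z ^ j) ^ (i : ℕ) = 1 := by
        rw [← pow_mul, ← pow_add, ← Nat.left_distrib, Nat.sub_add_cancel i.2.le, mul_comm j N, pow_mul,
          hz.pow_eq_one, one_pow]
      rw [mul_right_comm, h1, one_mul]
    · intro k _ hk
      rw [← Finset.sum_mul, ← map_sum]
      have h1 : ∑ j ∈ Finset.range N, z ^ (j * m) * c k * (z ^ j) ^ (k : ℕ) =
          c k * ∑ j ∈ Finset.range N, (z ^ (m + k)) ^ j := by
        rw [Finset.mul_sum]
        exact Finset.sum_congr rfl fun j _ => by ring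
      have h2 : z ^ (m + k) ≠ 1 := fun h => hk (Fin.ext (by
        have h3 := hz.dvd_of_pow_eq_one _ h
        obtain ⟨q, hq⟩ := h3
        have := i.2; have := k.2
        rcases q with _ | _ | q
        · simp [m] at hq; omega
        · simp [m] at hq; omega
        · exfalso; have : N * 2 ≤ N * (q + 1 + 1) := Nat.mul_le_mul_left N (by omega)
          simp only [m] at hq; omega))
      have h4 : ∑ j ∈ Finset.range N, (z ^ (m + k)) ^ j = 0 := by
        refine eq_zero_of_ne_zero_of_mul_right_eq_zero (sub_ne_zero.2 h2) ?_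
        rw [geom_sum_mul, ← pow_mul, mul_comm, pow_mul, hz.pow_eq_one, one_pow, sub_self]
      rw [h1, h4, mul_zero, map_zero, zero_mul]
    · intro h; exact absurd (Finset.mem_univ i) h
  rw [hsum] at hint
  have h2 : IsIntegral B (algebraMap K A ((N : K) * c i * a')) := by
    have h3 := hint.mul ((IsIntegral.pow (R := B) (?_ : IsIntegral B (AdjoinRoot.root (X ^ N - C a') : A))) (N - i.1))
    · rw [mul_assoc, ← pow_add, Nat.add_sub_cancel' i.2.le, Kum.root_pow, ← map_mul] at h3
      exact h3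
    · refine IsIntegral.of_pow hN ?_
      rw [Kum.root_pow]
      exact isIntegral_algebraMap
  haveI : Nontrivial A := AdjoinRoot.nontrivial _ (by
    rw [degree_X_pow_sub_C hN]; exact_mod_cast hN.ne')
  have h3 : IsIntegral B ((N : K) * c i * a') :=
    (isIntegral_algebraMap_iff (algebraMap K A).injective).1 h2
  obtain ⟨r, hr⟩ := IsIntegrallyClosed.algebraMap_eq_of_integral h3
  refine ⟨r * ↑(hNu.mul hau).unit⁻¹, mul_right_cancel₀ ((hNu.mul hau).map (algebraMap B K)).ne_zero ?_⟩
  rw [← map_mul, mul_assoc, IsUnit.val_inv_mul, mul_one, hr, map_mul, map_natCast]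
  ring

/-- A finite extension agreeing generically with a Kummer algebra with invertible radicand equals it. -/
theorem surjective_of_generic {S : Type u} [CommRing S] (hN : 0 < N) (hNu : IsUnit (N : B)) (hau : IsUnit a)
    {ζ : B} (hζ : IsPrimitiveRoot ζ N) (ψ : Kum B N a →+* S) (hinj : Function.Injective ψ)
    (hint : ∀ c, (ψ.comp (AdjoinRoot.of _)).IsIntegralElem c)
    (htf : ∀ (b : B) (c : S), b ≠ 0 → ψ (AdjoinRoot.of _ b) * c = 0 → c = 0)
    (hfrac : ∀ c, ∃ (b : B) (p : Kum B N a), b ≠ 0 ∧ ψ (AdjoinRoot.of _ b) * c = ψ p) :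
    Function.Surjective ψ := by
  intro x
  obtain ⟨b, p, hb, hbp⟩ := hfrac x
  obtain ⟨P, hP, hPx⟩ := hint x
  let K := FractionRing B
  let a' : K := algebraMap B K a
  have h0 : eval₂ (AdjoinRoot.of _) p (P.scaleRoots b) = 0 := by
    refine hinj ?_
    rw [hom_eval₂, map_zero, ← hbp, ← RingHom.comp_apply, scaleRoots_eval₂_mul, hPx, mul_zero]
  let Φ : Kum B N a →+* Kum K N a' := Kum.lift ((AdjoinRoot.of _).comp (algebraMap B K)) (AdjoinRoot.root _)
    (Kum.root_pow N a')
  have hΦ : ∀ r, Φ (AdjoinRoot.of _ r) = AdjoinRoot.of _ (algebraMap B K r) := fun r => Kum.lift_of _ _ _ _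
  have hb' : algebraMap B K b ≠ 0 := fun h => hb (IsFractionRing.injective B K (h.trans (map_zero _).symm))
  let y : Kum K N a' := AdjoinRoot.of _ (algebraMap B K b)⁻¹ * Φ p
  have hy : IsIntegral B y := by
    refine ⟨P, hP, ?_⟩
    have h1 := congrArg Φ h0
    have hcomp : Φ.comp (AdjoinRoot.of _) = algebraMap B (Kum K N a') := RingHom.ext hΦ
    rw [hom_eval₂, map_zero, hcomp] at h1
    have h2 : Φ p = algebraMap B (Kum K N a') b * y := by
      show _ = AdjoinRoot.of _ (algebraMap B K b) * (AdjoinRoot.of _ (algebraMap B K b)⁻¹ * Φ p)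
      rw [← mul_assoc, ← map_mul, mul_inv_cancel₀ hb', map_one, one_mul]
    rw [h2, scaleRoots_eval₂_mul] at h1
    refine (IsUnit.mul_right_eq_zero ?_).1 h1
    exact (((isUnit_iff_ne_zero.2 hb').map (AdjoinRoot.of (X ^ N - C a'))).pow _)
  have hpc : y = Kum.mk a' (fun k => (algebraMap B K b)⁻¹ * algebraMap B K (Kum.cf hN p k)) := by
    show AdjoinRoot.of _ (algebraMap B K b)⁻¹ * Φ p = _
    conv_lhs => rw [← Kum.mk_cf hN p]
    rw [Kum.mk, Kum.mk, map_sum, Finset.mul_sum]
    refine Finset.sum_congr rfl fun k _ => ?_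
    rw [map_mul, map_pow, hΦ, Kum.lift_root, map_mul, mul_assoc]
  rw [hpc] at hy
  choose q hq using fun k => coeff_mem_range hN hNu hau hζ _ hy k
  refine ⟨Kum.mk a q, (sub_eq_zero.1 (htf b (x - ψ (Kum.mk a q)) hb ?_)).symm⟩
  rw [mul_sub, hbp, ← map_mul, sub_eq_zero]
  congr 1
  rw [Kum.of_mul_mk]
  conv_lhs => rw [← Kum.mk_cf hN p]
  congr 1
  funext k
  refine IsFractionRing.injective B K ?_
  rw [map_mul, hq k, ← mul_assoc, mul_inv_cancel₀ hb', one_mul]

end Groth.Agent.CycCovEt
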